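import Groth.Agent.H9EtNorm.Split
import Groth.Agent.Pi1X.EtEqualizer

/-!
# Uniqueness of the norm law of an étale algebra
-/

set_option autoImplicit false
set_option backward.isDefEq.respectTransparency false
set_option backward.isDefEq.respectTransparency.types false
set_option linter.style.haveILetI false

universe u

open scoped TensorProduct

namespace Groth.Agent.H9EtNorm

open PolLib PolLaw

variable {A B : Type u} [CommRing A] [CommRing B] [Algebra A B]
  [Module.Free A B] [Module.Finite A B] [Algebra.Etale A B] {d : ℕ}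

theorem exists_splitting_ring (hd : Module.finrank A B = d) (p : PrimeSpectrum A) :
    ∃ (D : Type u) (_ : CommRing D) (_ : Algebra A D) (_ : Module.Flat A D),
      p ∈ Set.range (PrimeSpectrum.comap (algebraMap A D)) ∧ Nonempty (D ⊗[A] B ≃ₐ[D] (Fin d → D)) := by
  obtain ⟨D, _, _, hD, ⟨q, hq⟩, n, ⟨β⟩⟩ := Pi1X.exists_split _ A B p rfl
  haveI : Nontrivial D := q.nontrivial
  haveI : Nontrivial A := p.nontrivial
  have hn : n = d := by
    rw [← hd, ← Module.finrank_baseChange (R := D), β.toLinearEquiv.finrank_eq, Module.finrank_fin_fun]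
  subst hn
  exact ⟨D, inferInstance, inferInstance, inferInstance, ⟨q, hq⟩, ⟨β⟩⟩

variable (N : PolLaw.MulLaw A B A d)
  (hN : ∀ (S : Type u) [CommRing S] [Algebra A S] (x : S ⊗[A] B),
      N.law.toFun' S x = Algebra.norm S x ⊗ₜ[A] (1 : A))

include hN in
theorem evl_norm {D : Type u} [CommRing D] [Algebra A D] (β : D ⊗[A] B ≃ₐ[D] (Fin d → D))
    {R : Type u} [CommRing R] [Algebra A R] (i : D →ₐ[A] R) (x : R ⊗[A] B) :
    evl N (Algebra.ofId A R) x = ∏ k, mu (coordPt β i k) x := by
  show mu (Algebra.ofId A R) (N.law.toFun' R x) = _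
  rw [hN, mu_tmul, map_one, mul_one, ← Algebra.norm_eq_of_algEquiv (coordEquiv β i) x, norm_pi_fin]
  rfl

include hN in
theorem ker_eq_bot (hd : Module.finrank A B = d) : PolLaw.ker N.law = ⊥ := by
  rw [eq_bot_iff]
  intro b hb
  let e := Module.Free.chooseBasis A B
  rw [Ideal.mem_bot]
  refine e.repr.injective (Finsupp.ext fun j => ?_)
  rw [map_zero, Finsupp.zero_apply]
  refine zero_of_forall_flat fun p => ?_
  obtain ⟨D, _, _, _, hp, ⟨β⟩⟩ := exists_splitting_ring hd p
  refine ⟨D, inferInstance, inferInstance, inferInstance, hp, ?_⟩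
  let i : D →ₐ[A] D := AlgHom.id A D
  have hz : ((1 : D) ⊗ₜ[A] b : D ⊗[A] B) = 0 := by
    rw [sum_coord β i ((1 : D) ⊗ₜ[A] b)]
    refine Finset.sum_eq_zero fun k _ => ?_
    have h := evl_add_of_mem_ker N hb (Algebra.ofId A D) (1 - idem β i k) (idem β i k)
    rw [evl_norm N hN β i, evl_norm N hN β i] at h
    have h0 : ∏ l, mu (coordPt β i l) (1 - idem β i k) = 0 :=
      Finset.prod_eq_zero (Finset.mem_univ k) (by rw [map_sub, map_one, mu_coord_idem, if_pos rfl, sub_self])
    have h1 : ∏ l, mu (coordPt β i l) (1 - idem β i k + idem β i k * ((1 : D) ⊗ₜ[A] b)) =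
        mu (coordPt β i k) ((1 : D) ⊗ₜ[A] b) := by
      rw [Finset.prod_eq_single k]
      · rw [map_add, map_sub, map_one, map_mul, mu_coord_idem, if_pos rfl, sub_self, one_mul, zero_add]
      · intro l _ hl
        rw [map_add, map_sub, map_one, map_mul, mu_coord_idem, if_neg hl, sub_zero, zero_mul, add_zero]
      · exact fun h => (h (Finset.mem_univ k)).elim
    rw [h0, h1] at h
    rw [h, zero_smul]
  have h2 := congrArg (fun z => (Algebra.TensorProduct.basis D e).repr z j) hz
  simp only [map_zero, Finsupp.zero_apply, Algebra.TensorProduct.basis_repr_tmul] at h2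
  simpa using h2

include hN in
theorem unique_of_ker_le (hd : Module.finrank A B = d) (F : PolLaw.MulLaw A B A d)
    (hF : PolLaw.ker F.law ≤ nilradical B) : F = N := by
  refine MulLaw.ext (law_ext fun m x => ?_)
  have hinj : ∀ (R : Type u) [CommRing R] [Algebra A R] (z w : R ⊗[A] A),
      mu (Algebra.ofId A R) z = mu (Algebra.ofId A R) w → z = w := by
    intro R _ _ z w h
    rw [mu_eq_rid, mu_eq_rid] at h
    exact (TensorProduct.rid A R).injective h
  refine hinj _ _ _ ?_
  show evl F (Algebra.ofId A _) x = evl N (Algebra.ofId A _) x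
  ext μ
  rw [← sub_eq_zero]
  refine zero_of_forall_flat fun p => ?_
  obtain ⟨D, _, _, _, hp, ⟨β⟩⟩ := exists_splitting_ring hd p
  refine ⟨D, inferInstance, inferInstance, inferInstance, hp, ?_⟩
  let ψ : MvPolynomial (Fin m) A →ₐ[A] MvPolynomial (Fin m) D := MvPolynomial.mapAlgHom (Algebra.ofId A D)
  let i : D →ₐ[A] MvPolynomial (Fin m) D := IsScalarTower.toAlgHom A D _
  have h : ψ (evl F (Algebra.ofId A _) x) = ψ (evl N (Algebra.ofId A _) x) := by
    rw [← evl_nat' F _ ψ (Subsingleton.elim _ (Algebra.ofId A _)),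
      ← evl_nat' N _ ψ (Subsingleton.elim _ (Algebra.ofId A _)), evl_eq_prod β F i, evl_norm N hN β i]
    exact Finset.prod_congr rfl fun k _ => by rw [facPoly_eq_X β F hF rfl k, Polynomial.eval₂_X]
  have h3 := congrArg (MvPolynomial.coeff μ) h
  simp only [ψ, MvPolynomial.mapAlgHom_apply, MvPolynomial.coeff_map] at h3
  rw [map_sub, sub_eq_zero]
  exact h3

end Groth.Agent.H9EtNorm
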