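import Groth.Agent.PolLib.Fibres
import Groth.Agent.PolLib.Idem
import Groth.Agent.PolLib.Reduced
import Mathlib.RingTheory.Norm.Basic
import Mathlib.RingTheory.Flat.EquationalCriterion

/-!
# Multiplicative laws on an algebra split by a flat extension
-/

set_option autoImplicit false
set_option backward.isDefEq.respectTransparency false
set_option backward.isDefEq.respectTransparency.types false
set_option linter.style.haveILetI false

universe u

open scoped TensorProduct
open Polynomial

namespace Groth.Agent.H9EtNorm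

open PolLib PolLaw

variable {A : Type u} [CommRing A] {B : Type u} [CommRing B] [Algebra A B]

theorem norm_pi_fin {R : Type u} [CommRing R] {n : ℕ} (x : Fin n → R) :
    Algebra.norm R x = ∏ i, x i := by
  classical
  rw [Algebra.norm_eq_matrix_det (Pi.basisFun R (Fin n)), ← Matrix.det_diagonal]
  congr 1
  ext i j
  rw [Algebra.leftMulMatrix_eq_repr_mul, Pi.basisFun_repr, Pi.basisFun_apply, Matrix.diagonal_apply]
  by_cases h : i = j
  · subst h; simp
  · simp [h]

theorem zero_of_forall_flat {c : A}
    (h : ∀ p : PrimeSpectrum A, ∃ (D : Type u) (_ : CommRing D) (_ : Algebra A D) (_ : Module.Flat A D),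
      p ∈ Set.range (PrimeSpectrum.comap (algebraMap A D)) ∧ algebraMap A D c = 0) : c = 0 := by
  by_contra hc
  let J : Ideal A := LinearMap.ker (LinearMap.mulRight A c)
  have hJm : ∀ a, a ∈ J ↔ a * c = 0 := fun a => LinearMap.mem_ker
  have hJ : J ≠ ⊤ := fun e => hc (by
    have : (1 : A) ∈ J := e ▸ trivial
    have := (hJm 1).1 this
    rwa [one_mul] at this)
  obtain ⟨m, hm, hle⟩ := Ideal.exists_le_maximal J hJ
  obtain ⟨D, _, _, _, ⟨q, hq⟩, hcD⟩ := h ⟨m, hm.isPrime⟩
  have h0 : ∑ _i : Fin 1, c • (1 : D) = 0 := by simp [Algebra.smul_def, hcD]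
  obtain ⟨k, a, y, hy, ha⟩ := Module.Flat.isTrivialRelation_of_sum_smul_eq_zero h0
  refine q.isPrime.ne_top ((Ideal.eq_top_iff_one _).2 ?_)
  have h1 : (1 : D) = ∑ j, a 0 j • y j := hy 0
  rw [h1]
  refine Ideal.sum_mem _ fun j _ => ?_
  rw [Algebra.smul_def]
  refine Ideal.mul_mem_right _ _ (show a 0 j ∈ (PrimeSpectrum.comap (algebraMap A D) q).asIdeal from ?_)
  rw [hq]
  refine hle ?_
  rw [hJm]
  have := ha j
  rw [Fin.sum_univ_one] at this
  rw [mul_comm]
  exact this

variable {D : Type u} [CommRing D] [Algebra A D] {n : ℕ} (β : D ⊗[A] B ≃ₐ[D] (Fin n → D))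

section Coord

variable {R : Type u} [CommRing R] [Algebra A R] (i : D →ₐ[A] R)

/-- The idempotents cutting out the factors. -/
noncomputable def idem (k : Fin n) : R ⊗[A] B := rB B i (β.symm (Pi.single k 1))

/-- The coordinate on the `k`-th factor. -/
noncomputable def coordPt (k : Fin n) : B →ₐ[A] R :=
  i.comp ((Pi.evalAlgHom A (fun _ : Fin n => D) k).comp
    ((β.toAlgHom.restrictScalars A).comp Algebra.TensorProduct.includeRight))

theorem mu_coord_rB (k : Fin n) (z : D ⊗[A] B) : mu (coordPt β i k) (rB B i z) = i (β z k) := by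
  induction z using TensorProduct.induction_on with
  | zero => simp
  | add a b ha hb => simp [ha, hb]
  | tmul a b =>
    rw [rB_tmul, mu_tmul]
    show i a * i (β ((1 : D) ⊗ₜ[A] b) k) = i (β (a ⊗ₜ[A] b) k)
    rw [← map_mul]
    congr 1
    rw [show a ⊗ₜ[A] b = a • ((1 : D) ⊗ₜ[A] b) by rw [TensorProduct.smul_tmul', smul_eq_mul, mul_one],
      map_smul, Pi.smul_apply, smul_eq_mul]

theorem idem_mul (k l : Fin n) : idem β i k * idem β i l = if k = l then idem β i k else 0 := by
  unfold idem
  rw [← map_mul, ← map_mul]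
  by_cases h : k = l
  · subst h
    rw [if_pos rfl]
    congr 2
    funext j
    by_cases hj : j = k <;> simp [hj]
  · rw [if_neg h]
    have : (Pi.single k 1 * Pi.single l 1 : Fin n → D) = 0 := by
      funext j
      by_cases hj : j = k
      · subst hj; simp [h]
      · simp [hj]
    rw [this, map_zero, map_zero]

theorem idem_sum : ∑ k, idem β i k = 1 := by
  unfold idem
  rw [← map_sum, ← map_sum, Finset.univ_sum_single (fun _ : Fin n => (1 : D))]
  exact (congrArg (rB B i) (map_one β.symm)).trans (map_one _)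

theorem mu_coord_idem (k l : Fin n) : mu (coordPt β i k) (idem β i l) = if k = l then 1 else 0 := by
  rw [idem, mu_coord_rB, AlgEquiv.apply_symm_apply]
  by_cases h : k = l
  · subst h; simp
  · simp [h]

theorem sum_coord (x : R ⊗[A] B) : x = ∑ k, mu (coordPt β i k) x • idem β i k := by
  induction x using TensorProduct.induction_on with
  | zero => simp
  | add a b ha hb =>
    conv_lhs => rw [ha, hb]
    rw [← Finset.sum_add_distrib]
    exact Finset.sum_congr rfl fun k _ => by rw [map_add, add_smul]
  | tmul r b =>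
    have hb : ((1 : D) ⊗ₜ[A] b : D ⊗[A] B) = ∑ k, β ((1 : D) ⊗ₜ[A] b) k • β.symm (Pi.single k 1) := by
      apply β.injective
      rw [map_sum]
      funext j
      simp [Pi.single_apply]
    have h1 : ((1 : R) ⊗ₜ[A] b : R ⊗[A] B) = ∑ k, mu (coordPt β i k) ((1 : R) ⊗ₜ[A] b) • idem β i k := by
      have := congrArg (rB B i) hb
      rw [rB_tmul, map_one, map_sum] at this
      rw [this]
      refine Finset.sum_congr rfl fun k _ => ?_
      rw [rB_smul, ← this, mu_tmul, one_mul]
      rfl
    rw [show r ⊗ₜ[A] b = r • ((1 : R) ⊗ₜ[A] b) by rw [TensorProduct.smul_tmul', smul_eq_mul, mul_one]]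
    conv_lhs => rw [h1]
    rw [Finset.smul_sum]
    exact Finset.sum_congr rfl fun k _ => by rw [map_smul, smul_assoc]

theorem mu_coord_sum (v : Fin n → R) (k : Fin n) :
    mu (coordPt β i k) (∑ l, v l • idem β i l) = v k := by
  simp [map_sum, map_smul, mu_coord_idem]

/-- Coordinates on `R ⊗ B` once `B` splits. -/
noncomputable def coordEquiv : R ⊗[A] B ≃ₐ[R] (Fin n → R) :=
  AlgEquiv.ofBijective (Pi.algHom R _ fun k => mu (coordPt β i k))
    ⟨fun x y h => by
      rw [sum_coord β i x, sum_coord β i y]
      exact Finset.sum_congr rfl fun k _ => congrArg (· • idem β i k) (congrFun h k),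
    fun v => ⟨_, funext fun k => mu_coord_sum β i v k⟩⟩

theorem coord_rB {R' : Type u} [CommRing R'] [Algebra A R'] (i' : D →ₐ[A] R') (ψ : R →ₐ[A] R')
    (h : ψ.comp i = i') (k : Fin n) : rB B ψ (idem β i k) = idem β i' k := by
  rw [idem, rB_rB, h]; rfl

/-- Replace the `k`-th coordinate of `1` by `u`. -/
noncomputable def single1 (k : Fin n) (u : R) : R ⊗[A] B := u • idem β i k + (1 - idem β i k)

theorem mu_single1 (k l : Fin n) (u : R) :
    mu (coordPt β i l) (single1 β i k u) = if l = k then u else 1 := by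
  rw [single1, map_add, map_sub, map_smul, map_one, mu_coord_idem]
  by_cases h : l = k <;> simp [h]

theorem eq_prod_single1 (x : R ⊗[A] B) : x = ∏ k, single1 β i k (mu (coordPt β i k) x) := by
  apply (coordEquiv β i).injective
  rw [map_prod]
  funext l
  rw [Finset.prod_apply]
  show mu (coordPt β i l) x = ∏ k, mu (coordPt β i l) (single1 β i k _)
  simp [mu_single1]

end Coord

variable {d : ℕ} (F : MulLaw A B A d)

/-- The polynomial describing the law on the `k`-th factor. -/
noncomputable def facPoly (k : Fin n) : D[X] :=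
  evl F (Algebra.ofId A D[X]) (single1 β (IsScalarTower.toAlgHom A D D[X]) k X)

variable {R : Type u} [CommRing R] [Algebra A R]

theorem evl_single1 (i : D →ₐ[A] R) (k : Fin n) (u : R) :
    evl F (Algebra.ofId A R) (single1 β i k u) = (facPoly β F k).eval₂ i.toRingHom u := by
  let ψ : D[X] →ₐ[A] R :=
    { Polynomial.eval₂RingHom i.toRingHom u with
      commutes' := fun a => by
        show (algebraMap A D[X] a).eval₂ i.toRingHom u = _
        rw [IsScalarTower.algebraMap_apply A D D[X], Polynomial.algebraMap_apply, eval₂_C]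
        exact i.commutes a }
  have hψ : ψ.comp (IsScalarTower.toAlgHom A D D[X]) = i := AlgHom.ext fun d => by
    show (algebraMap D D[X] d).eval₂ i.toRingHom u = _
    rw [Polynomial.algebraMap_apply, eval₂_C]
    rfl
  have hX : ψ (X : D[X]) = u := eval₂_X _ _
  show _ = ψ (facPoly β F k)
  rw [facPoly, ← evl_nat' F (Algebra.ofId A D[X]) ψ (Subsingleton.elim _ _), single1, single1, map_add, map_sub,
    map_one, rB_smul, coord_rB β _ i ψ hψ, hX]

theorem evl_eq_prod (i : D →ₐ[A] R) (x : R ⊗[A] B) :
    evl F (Algebra.ofId A R) x = ∏ k, (facPoly β F k).eval₂ i.toRingHom (mu (coordPt β i k) x) := by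
  conv_lhs => rw [eq_prod_single1 β i x]
  rw [evl_prod]
  exact Finset.prod_congr rfl fun k _ => evl_single1 β F i k _

theorem coeff_mul_coeff (k : Fin n) (l m : ℕ) :
    (facPoly β F k).coeff m * (facPoly β F k).coeff l = if m = l then (facPoly β F k).coeff l else 0 := by
  set P := facPoly β F k
  let c : D →ₐ[A] D[X][X] := IsScalarTower.toAlgHom A D D[X][X]
  have h : ∀ u v : D[X][X], P.eval₂ c.toRingHom u * P.eval₂ c.toRingHom v = P.eval₂ c.toRingHom (u * v) := by
    intro u v
    rw [← evl_single1, ← evl_single1, ← evl_single1, ← evl_mul]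
    congr 1
    apply (coordEquiv β c).injective
    rw [map_mul]
    funext j
    show mu (coordPt β c j) _ * mu (coordPt β c j) _ = mu (coordPt β c j) _
    rw [mu_single1, mu_single1, mu_single1]
    by_cases hj : j = k <;> simp [hj]
  have h2 := h (Polynomial.C X) X
  have e1 : P.eval₂ c.toRingHom (Polynomial.C X) = Polynomial.C P := by
    rw [show c.toRingHom = (Polynomial.C : D[X] →+* D[X][X]).comp Polynomial.C from rfl, ← Polynomial.hom_eval₂,
      Polynomial.eval₂_C_X]
  have e2 : P.eval₂ c.toRingHom X = P.map Polynomial.C := by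
    rw [Polynomial.map, show c.toRingHom = (Polynomial.C : D[X] →+* D[X][X]).comp Polynomial.C from rfl]
  have e3 : P.eval₂ c.toRingHom (Polynomial.C X * X) =
      P.sum fun j a => Polynomial.C (Polynomial.C a * X ^ j) * X ^ j := by
    rw [Polynomial.eval₂_eq_sum]
    refine Finset.sum_congr rfl fun j _ => ?_
    show Polynomial.C (Polynomial.C (P.coeff j)) * (Polynomial.C X * X) ^ j =
      Polynomial.C (Polynomial.C (P.coeff j) * X ^ j) * X ^ j
    rw [mul_pow, map_mul, map_pow, mul_assoc]
  rw [e1, e2, e3] at h2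
  have h3 := congrArg (fun q => (q.coeff l).coeff m) h2
  simp only [Polynomial.coeff_C_mul, Polynomial.coeff_map, Polynomial.sum,
    Polynomial.finsetSum_coeff, Polynomial.coeff_X_pow, mul_ite, mul_one, mul_zero,
    Polynomial.coeff_mul_C, apply_ite (fun q : D[X] => q.coeff m),
    Polynomial.coeff_zero] at h3
  rw [h3, Finset.sum_ite_eq]
  by_cases hl : l ∈ P.support
  · rw [if_pos hl]
  · rw [if_neg hl, Polynomial.notMem_support_iff.mp hl, ite_self]

theorem coeff_zero_mem_kerBC (k : Fin n) :
    (facPoly β F k).coeff 0 • β.symm (Pi.single k 1) ∈ PolLaw.kerBC F.law D := by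
  classical
  refine mem_kerBC_of_evl F fun R _ _ i g x w => ?_
  rw [Subsingleton.elim g (Algebra.ofId A R), evl_eq_prod β F i, evl_eq_prod β F i]
  refine Finset.prod_congr rfl fun l _ => ?_
  rw [map_add, map_mul, rB_smul, map_smul]
  show (facPoly β F l).eval₂ i.toRingHom (_ + _ * (i ((facPoly β F k).coeff 0) • mu (coordPt β i l) (idem β i k))) = _
  rw [mu_coord_idem]
  by_cases h : l = k
  · subst h
    rw [if_pos rfl, smul_eq_mul, mul_one]
    set P := facPoly β F l
    rw [Polynomial.eval₂_eq_sum, Polynomial.eval₂_eq_sum]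
    refine Finset.sum_congr rfl fun j _ => ?_
    show i.toRingHom (P.coeff j) * _ ^ j = i.toRingHom (P.coeff j) * _ ^ j
    rcases Nat.eq_zero_or_pos j with rfl | hj
    · simp
    have h0 : i.toRingHom (P.coeff j) * i (P.coeff 0) = 0 := by
      show i (P.coeff j) * i (P.coeff 0) = 0
      rw [← map_mul, coeff_mul_coeff, if_neg (by omega), map_zero]
    rw [add_pow, Finset.sum_range_succ, mul_add, Finset.mul_sum]
    have : ∀ m ∈ Finset.range j, i.toRingHom (P.coeff j) * (mu (coordPt β i l) x ^ m *
        (mu (coordPt β i l) w * i (P.coeff 0)) ^ (j - m) * (j.choose m : R)) = 0 := fun m hm => by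
      obtain ⟨e, he⟩ := Nat.exists_eq_succ_of_ne_zero (Nat.sub_ne_zero_of_lt (Finset.mem_range.1 hm))
      rw [he, pow_succ]
      linear_combination (mu (coordPt β i l) x ^ m * (mu (coordPt β i l) w * i (P.coeff 0)) ^ e *
        mu (coordPt β i l) w * (j.choose m : R)) * h0
    rw [Finset.sum_eq_zero this, zero_add, Nat.sub_self, pow_zero, mul_one, Nat.choose_self, Nat.cast_one, mul_one]
  · rw [if_neg h, smul_zero, mul_zero, add_zero]

theorem coeff_zero_eq_zero (hF : PolLaw.ker F.law ≤ nilradical B)
    (k : Fin n) : (facPoly β F k).coeff 0 = 0 := by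
  have h1 := Ideal.le_radical (coeff_zero_mem_kerBC β F k)
  rw [radical_kerBC F D] at h1
  have h2 : ((PolLaw.ker F.law).map (Algebra.TensorProduct.includeRight : B →ₐ[A] D ⊗[A] B)).radical ≤
      nilradical (D ⊗[A] B) := by
    rw [nilradical, Ideal.radical_le_radical_iff]
    exact Ideal.map_le_iff_le_comap.2 fun b hb => (show IsNilpotent b from hF hb).map _
  obtain ⟨m, hm⟩ : IsNilpotent (β ((facPoly β F k).coeff 0 • β.symm (Pi.single k 1))) :=
    (show IsNilpotent _ from h2 h1).map β
  have h3 := congrFun hm k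
  rw [map_smul, AlgEquiv.apply_symm_apply, Pi.pow_apply, Pi.smul_apply, Pi.single_eq_same, smul_eq_mul, mul_one] at h3
  have hid : (facPoly β F k).coeff 0 * (facPoly β F k).coeff 0 = (facPoly β F k).coeff 0 := by
    rw [coeff_mul_coeff, if_pos rfl]
  exact IsIdempotentElem.eq_zero_of_isNilpotent hid ⟨m, h3⟩

theorem map_facPoly {K : Type u} [Field K] [IsAlgClosed K] [Algebra A K] (i : D →ₐ[A] K) :
    ∃ c : Fin d → Fin n, ∀ k, (facPoly β F k).map i.toRingHom = X ^ (Finset.univ.filter fun j => c j = k).card := by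
  classical
  obtain ⟨h, hh⟩ := exists_points F (Algebra.ofId A K)
  have hc : ∀ j, ∃ k, mu (h j) (idem β i k) = 1 ∧ ∀ l, l ≠ k → mu (h j) (idem β i l) = 0 := by
    intro j
    have hs := congrArg (mu (h j)) (idem_sum β i)
    rw [map_sum, map_one] at hs
    obtain ⟨k, -, hk⟩ := Finset.exists_ne_zero_of_sum_ne_zero (hs.trans_ne one_ne_zero)
    have hid : ∀ l, mu (h j) (idem β i l) * mu (h j) (idem β i k) =
        if l = k then mu (h j) (idem β i l) else 0 := fun l => by
      rw [← map_mul, idem_mul]
      split_ifs <;> simp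
    refine ⟨k, ?_, fun l hl => ?_⟩
    · have := hid k
      rw [if_pos rfl] at this
      exact mul_right_cancel₀ hk (this.trans (one_mul _).symm)
    · have := hid l
      rw [if_neg hl] at this
      exact (mul_eq_zero.1 this).resolve_right hk
  choose c hc1 hc0 using hc
  refine ⟨c, fun k => ?_⟩
  let j₀ : K →ₐ[A] K[X] := IsScalarTower.toAlgHom A K K[X]
  have h1 := hh K[X] j₀ (single1 β (j₀.comp i) k X)
  rw [Subsingleton.elim (j₀.comp (Algebra.ofId A K)) (Algebra.ofId A K[X]), evl_single1] at h1
  have e : (facPoly β F k).eval₂ (j₀.comp i).toRingHom X = (facPoly β F k).map i.toRingHom := rfl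
  rw [← e, h1]
  have : ∀ j, mu (j₀.comp (h j)) (single1 β (j₀.comp i) k X) = if c j = k then X else 1 := fun j => by
    rw [single1, map_add, map_sub, map_one, map_smul, ← coord_rB β i (j₀.comp i) j₀ rfl, mu_rB]
    by_cases hjk : c j = k
    · subst hjk
      simp [hc1 j]
    · simp [hc0 j k (Ne.symm hjk), hjk]
  simp only [this, Finset.prod_ite, Finset.prod_const, one_pow, mul_one]

theorem facPoly_eq_X (hF : PolLaw.ker F.law ≤ nilradical B) (hn : n = d)
    (k : Fin n) : facPoly β F k = X := by
  classical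
  set P := facPoly β F k
  have hnil : ∀ l, IsNilpotent ((P - X).coeff l) := by
    intro l
    rw [nilpotent_iff_mem_prime]
    intro q hq
    obtain ⟨K, _, _, φ, hφ⟩ := exists_field_point q
    let _ : Algebra A K := (φ.comp (algebraMap A D)).toAlgebra
    let i : D →ₐ[A] K := { φ with commutes' := fun _ => rfl }
    obtain ⟨c, hc⟩ := map_facPoly β F i
    have hpos : ∀ m, 1 ≤ (Finset.univ.filter fun j => c j = m).card := fun m => by
      rw [Nat.one_le_iff_ne_zero]
      intro h0
      have h1 := congrArg (fun p => p.coeff 0) (hc m)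
      rw [Polynomial.coeff_map, coeff_zero_eq_zero β F hF m, map_zero, h0, pow_zero, Polynomial.coeff_one_zero] at h1
      exact zero_ne_one h1
    have hsum : ∑ m, (Finset.univ.filter fun j => c j = m).card = n := by
      rw [← Finset.card_eq_sum_card_fiberwise (fun j _ => Finset.mem_univ (c j)), Finset.card_fin, hn]
    have hone : (Finset.univ.filter fun j => c j = k).card = 1 := by
      by_contra hne
      have := Finset.sum_lt_sum (s := Finset.univ) (fun m (_ : m ∈ (Finset.univ : Finset (Fin n))) => hpos m)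
        ⟨k, Finset.mem_univ k, lt_of_le_of_ne (hpos k) (Ne.symm hne)⟩
      rw [hsum, Finset.sum_const, Finset.card_fin, smul_eq_mul, mul_one] at this
      exact lt_irrefl _ this
    rw [← hφ]
    show i.toRingHom _ = 0
    rw [← Polynomial.coeff_map, Polynomial.map_sub, Polynomial.map_X, hc k, hone, pow_one, sub_self,
      Polynomial.coeff_zero]
  ext l
  rw [Polynomial.coeff_X]
  have hid : P.coeff l * P.coeff l = P.coeff l := by rw [coeff_mul_coeff, if_pos rfl]
  have h := hnil l
  rw [Polynomial.coeff_sub, Polynomial.coeff_X] at h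
  split_ifs with hl
  · rw [if_pos hl] at h
    have h0 : IsIdempotentElem (1 - P.coeff l) := IsIdempotentElem.one_sub hid
    exact (sub_eq_zero.1 (h0.eq_zero_of_isNilpotent (by rw [← neg_sub]; exact h.neg))).symm
  · rw [if_neg hl, sub_zero] at h
    exact IsIdempotentElem.eq_zero_of_isNilpotent hid h

end Groth.Agent.H9EtNorm
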